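import Groth.Agent.Lib.Vasconcelos.Core
import Mathlib.RingTheory.LocalRing.Module
import Mathlib.RingTheory.Localization.Away.Basic

/-!
From local to global: an ideal of finite projective dimension with projective conormal module is
locally generated by a regular sequence.
-/

set_option autoImplicit false

universe u

namespace Groth.Agent.Lib.Vasconcelos.Global

open scoped Pointwise
open RingTheory.Sequence Groth.Agent.Lib.Regular.PD

theorem isWeaklyRegular_ofFn {A : Type u} [CommRing A] {r : ℕ} (x : Fin r → A) :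
    IsWeaklyRegular A (List.ofFn x) ↔
      ∀ (i : Fin r) (z : A), x i * z ∈ Ideal.span (x '' Set.Iio i) →
        z ∈ Ideal.span (x '' Set.Iio i) := by
  have hP : ∀ i : Fin r, Ideal.ofList ((List.ofFn x).take i) = Ideal.span (x '' Set.Iio i) := by
    intro i
    refine congr_arg Ideal.span (Set.ext fun z => ?_)
    simp only [Set.mem_setOf_eq, List.mem_take_iff_getElem, List.getElem_ofFn, List.length_ofFn,
      Set.mem_image, Set.mem_Iio]
    constructor
    · rintro ⟨j, hj, rfl⟩
      exact ⟨⟨j, by omega⟩, show j < (i : ℕ) by omega, rfl⟩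
    · rintro ⟨j, hj, rfl⟩
      exact ⟨j, lt_min hj j.2, rfl⟩
  rw [isWeaklyRegular_iff_Fin]
  constructor
  · intro h i z hz
    have h1 := h ⟨i, by rw [List.length_ofFn]; exact i.2⟩
    rw [isSMulRegular_quotient_iff_mem_of_smul_mem] at h1
    simp only [Fin.getElem_fin, List.getElem_ofFn, hP, smul_eq_mul, Ideal.mul_top] at h1
    exact h1 z hz
  · intro h i
    have hi : (i : ℕ) < r := by simpa using i.2
    rw [isSMulRegular_quotient_iff_mem_of_smul_mem]
    simp only [Fin.getElem_fin, List.getElem_ofFn, smul_eq_mul, Ideal.mul_top]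
    intro z hz
    rw [hP ⟨i, hi⟩] at hz ⊢
    exact h ⟨i, hi⟩ z hz

theorem span_mul_unit {A : Type u} [CommRing A] {r : ℕ} (x : Fin r → A) (u : Fin r → Aˣ)
    (s : Set (Fin r)) :
    Ideal.span ((fun i => x i * u i) '' s) = Ideal.span (x '' s) := by
  refine le_antisymm (Ideal.span_le.2 ?_) (Ideal.span_le.2 ?_)
  · rintro _ ⟨i, hi, rfl⟩
    exact Ideal.mul_mem_right _ _ (Ideal.subset_span ⟨i, hi, rfl⟩)
  · rintro _ ⟨i, hi, rfl⟩
    have := Ideal.mul_mem_right (↑(u i)⁻¹) (Ideal.span ((fun i => x i * u i) '' s))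
      (Ideal.subset_span ⟨i, hi, rfl⟩)
    simpa [mul_assoc] using this

theorem isWeaklyRegular_mul_unit {A : Type u} [CommRing A] {r : ℕ} (x : Fin r → A)
    (u : Fin r → Aˣ) (h : IsWeaklyRegular A (List.ofFn x)) :
    IsWeaklyRegular A (List.ofFn fun i => x i * u i) := by
  rw [isWeaklyRegular_ofFn] at h ⊢
  intro i z hz
  rw [span_mul_unit x u] at hz ⊢
  refine h i z ?_
  have := Ideal.mul_mem_right (↑(u i)⁻¹) _ hz
  rwa [mul_assoc, mul_comm z, mul_assoc, Units.mul_inv_cancel_left] at this

variable {R : Type u} [CommRing R]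

/-- A regular sequence at a prime is regular, generating the same ideal, on a basic open. -/
theorem exists_away [IsNoetherianRing R] (p : Ideal R) [p.IsPrime] (I : Ideal R) (hIp : I ≤ p)
    {r : ℕ} (a : Fin r → R) (ha : ∀ i, a i ∈ I)
    (hreg : IsWeaklyRegular (Localization.AtPrime p)
      (List.ofFn fun i => algebraMap R (Localization.AtPrime p) (a i)))
    (hgen : I.map (algebraMap R (Localization.AtPrime p)) ≤
      Ideal.span (Set.range fun i => algebraMap R (Localization.AtPrime p) (a i))) :
    ∃ g : R, g ∉ p ∧ ∃ rs : List (Localization.Away g),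
      IsRegular (Localization.Away g) rs ∧
        Ideal.ofList rs = I.map (algebraMap R (Localization.Away g)) := by
  classical
  have clear : ∀ C P : Ideal R,
      C.map (algebraMap R (Localization.AtPrime p)) ≤ P.map (algebraMap R (Localization.AtPrime p)) →
      ∃ g : R, g ∉ p ∧ ∀ z ∈ C, g * z ∈ P := by
    intro C P hCP
    obtain ⟨s, hs⟩ := (IsNoetherian.noetherian C : C.FG)
    have h1 : ∀ z ∈ s, ∃ t : R, t ∉ p ∧ t * z ∈ P := by
      intro z hz
      have := hCP (Ideal.mem_map_of_mem _ (hs.le (Ideal.subset_span hz)))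
      obtain ⟨t, ht, htz⟩ :=
        (IsLocalization.algebraMap_mem_map_algebraMap_iff p.primeCompl _ _ _).1 this
      exact ⟨t, ht, htz⟩
    choose t ht htz using h1
    refine ⟨∏ z ∈ s.attach, t z.1 z.2, fun h => ?_, ?_⟩
    · obtain ⟨z, -, hz⟩ := (Ideal.IsPrime.prod_mem_iff (p := p)).1 h
      exact ht z.1 z.2 hz
    · intro z hz
      rw [← hs] at hz
      induction hz using Submodule.span_induction with
      | mem z hz =>
          obtain ⟨c, hc⟩ : t z hz ∣ ∏ z ∈ s.attach, t z.1 z.2 :=
            Finset.dvd_prod_of_mem (fun w : {x // x ∈ s} => t w.1 w.2) (Finset.mem_attach s ⟨z, hz⟩)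
          rw [hc, mul_comm (t z hz) c, mul_assoc]
          exact Ideal.mul_mem_left _ _ (htz z hz)
      | zero => simp
      | add x y _ _ hx hy => rw [mul_add]; exact add_mem hx hy
      | smul c x _ hx => rw [smul_eq_mul, mul_left_comm]; exact Ideal.mul_mem_left _ _ hx
  let P : Fin r → Ideal R := fun i => Ideal.span (a '' Set.Iio i)
  have hmapP : ∀ {A : Type u} [CommRing A] (f : R →+* A) (i : Fin r),
      (P i).map f = Ideal.span ((fun j => f (a j)) '' Set.Iio i) := fun f i => by
    rw [Ideal.map_span, Set.image_image]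
  let C : Fin r → Ideal R := fun i => Submodule.comap (LinearMap.mul R R (a i)) (P i)
  have hC : ∀ i, ∃ g : R, g ∉ p ∧ ∀ z ∈ C i, g * z ∈ P i := by
    intro i
    refine clear _ _ (Ideal.map_le_iff_le_comap.2 fun z hz => ?_)
    rw [Ideal.mem_comap, hmapP]
    refine (isWeaklyRegular_ofFn _).1 hreg i _ ?_
    rw [← map_mul, ← hmapP]
    exact Ideal.mem_map_of_mem _ hz
  choose gs hgs hgsC using hC
  obtain ⟨g₀, hg₀, hg₀I⟩ := clear I (Ideal.span (Set.range a)) (by
    rw [Ideal.map_span, ← Set.range_comp]
    exact hgen)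
  let g := g₀ * ∏ i, gs i
  have hgp : g ∉ p := fun h => by
    rcases Ideal.IsPrime.mem_or_mem ‹_› h with h | h
    · exact hg₀ h
    · obtain ⟨i, -, hi⟩ := (Ideal.IsPrime.prod_mem_iff (p := p)).1 h
      exact hgs i hi
  have hu : IsUnit (algebraMap R (Localization.Away g) g) :=
    IsLocalization.map_units _ (⟨g, Submonoid.mem_powers g⟩ : Submonoid.powers g)
  have hu0 : IsUnit (algebraMap R (Localization.Away g) g₀) := by
    rw [map_mul] at hu
    exact isUnit_of_mul_isUnit_left hu
  have hui : ∀ i, IsUnit (algebraMap R (Localization.Away g) (gs i)) := fun i => by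
    rw [map_mul, map_prod] at hu
    exact isUnit_of_dvd_unit (Finset.dvd_prod_of_mem
        (fun i => algebraMap R (Localization.Away g) (gs i)) (Finset.mem_univ i))
      (isUnit_of_mul_isUnit_right hu)
  let b : Fin r → Localization.Away g := fun i => algebraMap R _ (a i)
  have hspan : Ideal.ofList (List.ofFn b) = I.map (algebraMap R (Localization.Away g)) := by
    have hr : Ideal.ofList (List.ofFn b) = Ideal.span (Set.range b) :=
      congr_arg Ideal.span (Set.ext fun z => by simp)
    rw [hr]
    refine le_antisymm (Ideal.span_le.2 ?_) (Ideal.map_le_iff_le_comap.2 fun z hz => ?_)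
    · rintro _ ⟨i, rfl⟩
      exact Ideal.mem_map_of_mem _ (ha i)
    · rw [Ideal.mem_comap, ← Ideal.unit_mul_mem_iff_mem _ hu0, ← map_mul]
      have := Ideal.mem_map_of_mem (algebraMap R (Localization.Away g)) (hg₀I z hz)
      rwa [Ideal.map_span, ← Set.range_comp] at this
  refine ⟨g, hgp, List.ofFn b, ⟨?_, ?_⟩, hspan⟩
  · rw [isWeaklyRegular_ofFn]
    intro i w hw
    obtain ⟨⟨z, s⟩, rfl⟩ := IsLocalization.mk'_surjective (Submonoid.powers g) w |>.imp fun x h => h
    rw [← hmapP] at hw ⊢
    rw [IsLocalization.mk'_mem_map_algebraMap_iff] 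
    rw [IsLocalization.mul_mk'_eq_mk'_of_mul, IsLocalization.mk'_mem_map_algebraMap_iff] at hw
    obtain ⟨t, ht, htz⟩ := hw
    refine ⟨t * g, mul_mem ht (Submonoid.mem_powers g), ?_⟩
    have h1 : t * z ∈ C i := by
      change a i * (t * z) ∈ P i
      rwa [mul_left_comm]
    have h2 := hgsC i _ h1
    obtain ⟨c, hc⟩ : gs i ∣ g :=
      dvd_mul_of_dvd_right (Finset.dvd_prod_of_mem _ (Finset.mem_univ i)) _
    rw [hc, show t * (gs i * c) * z = c * (gs i * (t * z)) by ring]
    exact Ideal.mul_mem_left _ _ h2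
  · rw [smul_eq_mul, Ideal.mul_top, hspan]
    intro htop
    have hone : (1 : Localization.Away g) ∈ I.map (algebraMap R (Localization.Away g)) := by
      rw [← htop]; exact Submodule.mem_top
    rw [← map_one (algebraMap R (Localization.Away g)),
      IsLocalization.algebraMap_mem_map_algebraMap_iff (Submonoid.powers g)] at hone
    obtain ⟨t, ⟨k, rfl⟩, ht⟩ := hone
    rw [mul_one] at ht
    exact hgp (Ideal.IsPrime.mem_of_pow_mem ‹_› k (hIp ht))

theorem isUnit_algebraMap_end {A : Type u} [CommRing A] [Algebra R A] {V : Type u} [AddCommGroup V]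
    [Module R V] [Module A V] [IsScalarTower R A V] {x : R} (hx : IsUnit (algebraMap R A x)) :
    IsUnit (algebraMap R (Module.End R V) x) := by
  have : algebraMap R (Module.End R V) x = Algebra.lsmul R R V (algebraMap R A x) :=
    LinearMap.ext fun v => (algebraMap_smul A x v).symm
  rw [this]
  exact hx.map _

theorem coordinates_of_split {A : Type u} [CommRing A] [IsNoetherianRing A] [IsLocalRing A]
    (J : Ideal A) (hJ : J ≠ ⊤) {N : ℕ} (z : Fin N → J) (fA : J →ₗ[A] (Fin N → A ⧸ J))
    (hid : ∀ w, J.toCotangent w =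
      Fintype.linearCombination (A ⧸ J) (fun i => J.toCotangent (z i)) (fA w)) :
    ∃ (r : ℕ) (y : Fin r → J) (c : J →ₗ[A] (Fin r → A ⧸ J)), (∀ i, c (y i) = Pi.single i 1) ∧
      (⊤ : Submodule A J) ≤ Submodule.span A (Set.range y) ⊔ J • ⊤ := by
  classical
  have hkill : J • (⊤ : Submodule A J) ≤ LinearMap.ker fA := Submodule.smul_le.2 fun a ha w _ => by
    rw [LinearMap.mem_ker, map_smul]
    funext i
    obtain ⟨q, hq⟩ := Ideal.Quotient.mk_surjective (fA w i)
    rw [Pi.smul_apply, ← hq]
    exact Ideal.Quotient.eq_zero_iff_mem.2 (J.mul_mem_right q ha)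
  have hsurj : Function.Surjective (algebraMap A (A ⧸ J)) := Ideal.Quotient.mk_surjective
  let s0 : J.Cotangent →ₗ[A] (Fin N → A ⧸ J) := Submodule.liftQ (J • (⊤ : Submodule A J)) fA hkill
  let sJ : J.Cotangent →ₗ[A ⧸ J] (Fin N → A ⧸ J) := s0.extendScalarsOfSurjective hsurj
  let πJ : (Fin N → A ⧸ J) →ₗ[A ⧸ J] J.Cotangent :=
    Fintype.linearCombination (A ⧸ J) fun i => J.toCotangent (z i)
  have hretr : πJ.comp sJ = LinearMap.id := LinearMap.ext fun v => by
    obtain ⟨w, rfl⟩ := J.toCotangent_surjective v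
    exact (hid w).symm
  haveI : Module.Projective (A ⧸ J) J.Cotangent := Module.Projective.of_split sJ πJ hretr
  have hπJ : Function.Surjective πJ := fun v => ⟨sJ v, LinearMap.congr_fun hretr v⟩
  haveI : Module.Finite (A ⧸ J) J.Cotangent := Module.Finite.of_surjective πJ hπJ
  haveI : Nontrivial (A ⧸ J) := Ideal.Quotient.nontrivial_iff.2 hJ
  haveI : IsLocalRing (A ⧸ J) :=
    IsLocalRing.of_surjective' (Ideal.Quotient.mk _) Ideal.Quotient.mk_surjective
  haveI := Module.finitePresentation_of_projective (A ⧸ J) J.Cotangent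
  have hv : Submodule.span (A ⧸ J)
      (Set.range fun i : ULift.{u} (Fin N) => J.toCotangent (z i.down)) = ⊤ := by
    rw [eq_top_iff]
    rintro v -
    obtain ⟨x, rfl⟩ := hπJ v
    rw [Fintype.linearCombination_apply]
    exact Submodule.sum_mem _ fun i _ =>
      Submodule.smul_mem _ _ (Submodule.subset_span ⟨⟨i⟩, rfl⟩)
  obtain ⟨κ, a, b, hb⟩ := Module.exists_basis_of_span_of_flat _ hv
  haveI : Finite κ := Module.Finite.finite_basis b
  haveI : Fintype κ := Fintype.ofFinite κ
  let e := Fintype.equivFin κ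
  refine ⟨Fintype.card κ, fun i => z (a (e.symm i)).down,
    ((b.reindex e).equivFun.toLinearMap.restrictScalars A).comp J.toCotangent, fun i => ?_, ?_⟩
  · change (b.reindex e).equivFun (J.toCotangent (z (a (e.symm i)).down)) = _
    rw [← hb, ← b.reindex_apply e]
    funext j
    rw [Module.Basis.equivFun_self]
    simp [Pi.single_apply, eq_comm]
  · intro w _
    have : J.toCotangent w ∈ (Submodule.span A (Set.range fun i =>
        z (a (e.symm i)).down)).map J.toCotangent := by
      rw [Submodule.map_span, ← Set.range_comp]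
      have hw : J.toCotangent w ∈
          (Submodule.span (A ⧸ J) (Set.range (b.reindex e))).restrictScalars A := by
        rw [Module.Basis.span_eq]; trivial
      rw [Submodule.restrictScalars_span A (A ⧸ J) hsurj] at hw
      convert hw using 3
      funext i
      simp [← hb]
    obtain ⟨v, hv', hvw⟩ := this
    rw [← sub_add_cancel w v, add_comm]
    refine Submodule.add_mem_sup hv' ((Submodule.Quotient.mk_eq_zero _).1 ?_)
    change J.toCotangent (w - v) = 0
    rw [map_sub, hvw, sub_self]

/-- Localizing a projective conormal module at a prime. -/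
theorem exists_local_coordinates [IsNoetherianRing R] (I : Ideal R)
    [Module.Projective (R ⧸ I) I.Cotangent] (A : Type u) [CommRing A] [Algebra R A]
    (M : Submonoid R) [IsLocalization M A] [IsNoetherianRing A] [IsLocalRing A]
    (hJ : I.map (algebraMap R A) ≠ ⊤) :
    ∃ (r : ℕ) (y : Fin r → I.map (algebraMap R A))
      (c : I.map (algebraMap R A) →ₗ[A] (Fin r → A ⧸ I.map (algebraMap R A))),
      (∀ i, c (y i) = Pi.single i 1) ∧
        (⊤ : Submodule A (I.map (algebraMap R A))) ≤
          Submodule.span _ (Set.range y) ⊔ I.map (algebraMap R A) • ⊤ := by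
  classical
  obtain ⟨N, π, hπ⟩ := Module.Finite.exists_fin' R I
  let J : Ideal A := I.map (algebraMap R A)
  let z : Fin N → I := fun i => π (Pi.single i 1)
  let π' : (Fin N → R ⧸ I) →ₗ[R ⧸ I] I.Cotangent :=
    Fintype.linearCombination (R ⧸ I) fun i => I.toCotangent (z i)
  have hπ' : Function.Surjective π' := by
    intro v
    obtain ⟨w, rfl⟩ := I.toCotangent_surjective v
    obtain ⟨f, rfl⟩ := hπ w
    refine ⟨fun i => Ideal.Quotient.mk I (f i), ?_⟩
    rw [Fintype.linearCombination_apply]
    conv_rhs => rw [pi_eq_sum_univ' f]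
    simp only [map_sum, map_smul]
    refine Finset.sum_congr rfl fun i _ => ?_
    exact (IsScalarTower.algebraMap_smul (R ⧸ I) (f i) _)
  obtain ⟨s, hs⟩ := Module.projective_lifting_property π' LinearMap.id hπ'
  let η : R ⧸ I →ₗ[R] A ⧸ J := Submodule.liftQ I (Algebra.linearMap R (A ⧸ J)) fun a ha =>
    Ideal.Quotient.eq_zero_iff_mem.2 (Ideal.mem_map_of_mem _ ha)
  let g : I →ₗ[R] J := Algebra.idealMap I (S := A)
  let f : I →ₗ[R] (Fin N → A ⧸ J) :=
    LinearMap.pi fun i =>
      η.comp ((LinearMap.proj i).comp ((s.restrictScalars R).comp I.toCotangent))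
  have hunit : ∀ x : M, IsUnit (algebraMap R (Module.End R (Fin N → A ⧸ J)) x) :=
    fun x => isUnit_algebraMap_end (IsLocalization.map_units A x)
  let fA : J →ₗ[A] (Fin N → A ⧸ J) :=
    (IsLocalizedModule.lift M g f hunit).extendScalarsOfIsLocalization M A
  have hfA : ∀ w, fA (g w) = f w := fun w => IsLocalizedModule.lift_apply M g f hunit w
  refine coordinates_of_split J hJ (fun i => g (z i)) fA ?_
  let L : J →ₗ[A] J.Cotangent :=
    (Fintype.linearCombination (A ⧸ J) fun i => J.toCotangent (g (z i))).restrictScalars A ∘ₗ fA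
  suffices hL : (J.toCotangent).restrictScalars R = L.restrictScalars R from
    fun w => LinearMap.congr_fun hL w
  refine IsLocalizedModule.ext M g
    (fun x => isUnit_algebraMap_end (IsLocalization.map_units A x)) (LinearMap.ext fun w => ?_)
  change J.toCotangent (g w) =
    Fintype.linearCombination (A ⧸ J) (fun i => J.toCotangent (g (z i))) (fA (g w))
  rw [hfA]
  have hw : I.toCotangent w = π' (s (I.toCotangent w)) := (LinearMap.congr_fun hs _).symm
  choose a ha using fun i => Ideal.Quotient.mk_surjective (s (I.toCotangent w) i)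
  have hw' : I.toCotangent w = I.toCotangent (∑ i, a i • z i) := by
    rw [hw, Fintype.linearCombination_apply, map_sum]
    refine Finset.sum_congr rfl fun i _ => ?_
    rw [map_smul, ← ha i]
    exact IsScalarTower.algebraMap_smul (R ⧸ I) (a i) _
  have hf : ∀ i, f w i = Ideal.Quotient.mk J (algebraMap R A (a i)) := fun i => by
    change η (s (I.toCotangent w) i) = _
    rw [← ha i]
    rfl
  rw [Fintype.linearCombination_apply]
  have hsum : ∀ i, f w i • J.toCotangent (g (z i)) =
      J.toCotangent (algebraMap R A (a i) • g (z i)) := fun i => by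
    rw [hf, map_smul]
    exact IsScalarTower.algebraMap_smul (A ⧸ J) (algebraMap R A (a i)) _
  rw [Finset.sum_congr rfl fun i _ => hsum i, ← map_sum]
  refine J.toCotangent_eq.2 ?_
  have h2 := Ideal.mem_map_of_mem (algebraMap R A) (I.toCotangent_eq.1 hw')
  rw [Ideal.map_pow] at h2
  have hgval : ∀ v : I, ((g v : J) : A) = algebraMap R A v := fun _ => rfl
  simpa [hgval, map_sum, Algebra.smul_def] using h2

/-- An ideal of finite projective dimension with projective conormal module is a regular ideal. -/
theorem isRegularIdeal [IsNoetherianRing R] (I : Ideal R) (n : ℕ) (hpd : PDle R I n)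
    [Module.Projective (R ⧸ I) I.Cotangent] (p : Ideal R) [p.IsPrime] (hIp : I ≤ p) :
    ∃ g : R, g ∉ p ∧ ∃ rs : List (Localization.Away g),
      IsRegular (Localization.Away g) rs ∧
        Ideal.ofList rs = I.map (algebraMap R (Localization.Away g)) := by
  let A := Localization.AtPrime p
  let J : Ideal A := I.map (algebraMap R A)
  have hJ : J ≤ IsLocalRing.maximalIdeal A := by
    rw [← Localization.AtPrime.map_eq_maximalIdeal]
    exact Ideal.map_mono hIp
  have hJtop : J ≠ ⊤ := fun h =>
    (IsLocalRing.maximalIdeal.isMaximal A).ne_top (top_le_iff.1 (h ▸ hJ))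
  obtain ⟨r, y, c, hc, hspan⟩ := exists_local_coordinates I A p.primeCompl hJtop
  obtain ⟨x, hxy, hreg⟩ := Core.exists_isRegular_lift r J hJtop n
    (pdle_localization p.primeCompl A n (Algebra.idealMap I (S := A)) hpd) y c hc
  have hxJ : ∀ i, x i ∈ J := fun i => by
    have := add_mem (Ideal.pow_le_self two_ne_zero (hxy i)) (y i).2
    rwa [sub_add_cancel] at this
  have hgen : J ≤ Ideal.span (Set.range x) := by
    refine Submodule.le_of_le_smul_of_le_jacobson_bot (IsNoetherian.noetherian J)
      (hJ.trans (IsLocalRing.jacobson_eq_maximalIdeal ⊥ bot_ne_top).ge) (fun w hw => ?_)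
    have hw' := Submodule.mem_map_of_mem (f := J.subtype) (hspan (Submodule.mem_top (x := ⟨w, hw⟩)))
    rw [Submodule.map_sup, Submodule.map_span, Submodule.map_smul'', Submodule.map_subtype_top]
      at hw'
    refine (sup_le (a := Submodule.span A (J.subtype '' Set.range y))
      (c := Ideal.span (Set.range x) ⊔ J • J) (Submodule.span_le.2 ?_) le_sup_right) hw'
    rintro _ ⟨_, ⟨i, rfl⟩, rfl⟩
    have h2 : ((y i : A) - x i) ∈ J • J := by
      rw [smul_eq_mul, ← pow_two]
      exact neg_sub (x i) (y i : A) ▸ neg_mem (hxy i)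
    rw [Submodule.coe_subtype, ← add_sub_cancel (x i) (y i : A)]
    exact Submodule.add_mem_sup (Ideal.subset_span ⟨i, rfl⟩) h2
  have hlift : ∀ i, ∃ (a : R) (u : Aˣ), a ∈ I ∧ algebraMap R A a = x i * u := by
    intro i
    obtain ⟨⟨⟨a, ha⟩, s⟩, h⟩ := (IsLocalization.mem_map_algebraMap_iff p.primeCompl A).1 (hxJ i)
    exact ⟨a, (IsLocalization.map_units A s).unit, ha, h.symm⟩
  choose a u ha hau using hlift
  refine exists_away p I hIp a ha ?_ ?_
  · rw [show (fun i => algebraMap R (Localization.AtPrime p) (a i)) = fun i => x i * u i from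
      funext hau]
    exact isWeaklyRegular_mul_unit x u hreg.toIsWeaklyRegular
  · refine hgen.trans (le_of_eq ?_)
    rw [show (fun i => algebraMap R (Localization.AtPrime p) (a i)) = fun i => x i * u i from
      funext hau]
    rw [← Set.image_univ, ← Set.image_univ]
    exact (span_mul_unit x u _).symm

end Groth.Agent.Lib.Vasconcelos.Global
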