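import Groth.Agent.Lib.Regular.PD
import Mathlib.RingTheory.Ideal.Cotangent
import Mathlib.RingTheory.Regular.RegularSequence
import Mathlib.RingTheory.Ideal.AssociatedPrime.Finiteness
import Mathlib.RingTheory.Localization.Algebra
import Mathlib.RingTheory.Localization.AtPrime.Basic

/-!
Ideals of finite projective dimension with free conormal summands: regular sequences
(Ferrand–Vasconcelos).
-/

set_option autoImplicit false

universe u

namespace Groth.Agent.Lib.Vasconcelos.Core

open scoped TensorProduct Pointwise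
open Groth.Agent.Lib.Regular.PD

variable {R : Type u} [CommRing R]

theorem free_of_pdle_of_socle [IsNoetherianRing R] [IsLocalRing R] {s : R} (hs : s ≠ 0)
    (hsm : ∀ a ∈ IsLocalRing.maximalIdeal R, s * a = 0) :
    ∀ (n : ℕ) (M : Type u) [AddCommGroup M] [Module R M] [Module.Finite R M],
      PDle R M n → Module.Free R M := by
  intro n
  induction n with
  | zero =>
      intro M _ _ _ h
      rw [pdle_zero_iff] at h
      exact Module.free_of_flat_of_isLocalRing
  | succ n ih =>
      intro M _ _ _ h
      obtain ⟨k, f, hf⟩ := exists_free_cover (R := R) M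
      have hK : Module.Free R (LinearMap.ker f) := ih _ ((pdle_succ_iff hf n).mp h)
      refine Module.free_of_lTensor_residueField_injective (LinearMap.ker f).subtype f hf
        (LinearMap.exact_subtype_ker_map f) ?_
      rw [injective_iff_map_eq_zero]
      intro x hx
      obtain ⟨v, rfl⟩ := TensorProduct.mk_surjective R (LinearMap.ker f)
        (IsLocalRing.ResidueField R) Ideal.Quotient.mk_surjective x
      have hv : (v : Fin k → R) ∈ IsLocalRing.maximalIdeal R • (⊤ : Submodule R (Fin k → R)) := by
        rw [← LinearMap.ker_tensorProductMk, LinearMap.mem_ker]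
        exact hx
      have hsv : s • (v : Fin k → R) = 0 := by
        refine Submodule.smul_induction_on hv (fun a ha w _ => ?_) (fun a b ha hb => ?_)
        · rw [smul_smul, hsm a ha, zero_smul]
        · rw [smul_add, ha, hb, add_zero]
      have hsv' : s • v = 0 := Subtype.ext hsv
      let b := Module.Free.chooseBasis R (LinearMap.ker f)
      have hcoord : ∀ i, b.repr v i ∈ IsLocalRing.maximalIdeal R := by
        intro i
        by_contra hi
        have hu : IsUnit (b.repr v i) := IsLocalRing.notMem_maximalIdeal.1 hi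
        have : s * b.repr v i = 0 := by
          have := congr_arg (fun w => b.repr w i) hsv'
          simpa using this
        exact hs (hu.mul_left_eq_zero.1 this)
      have hv' : v ∈ IsLocalRing.maximalIdeal R • (⊤ : Submodule R (LinearMap.ker f)) := by
        rw [← b.linearCombination_repr v, Finsupp.linearCombination_apply]
        exact Submodule.sum_mem _ fun i _ => Submodule.smul_mem_smul (hcoord i) trivial
      rw [← LinearMap.ker_tensorProductMk, LinearMap.mem_ker] at hv'
      exact hv'

theorem eq_bot_of_pdle_of_socle [IsNoetherianRing R] [IsLocalRing R] {s : R} (hs : s ≠ 0)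
    (hsm : ∀ a ∈ IsLocalRing.maximalIdeal R, s * a = 0) {J : Ideal R} (hJ : J ≠ ⊤) {n : ℕ}
    (h : PDle R J n) : J = ⊥ := by
  haveI : Module.Free R J := free_of_pdle_of_socle hs hsm n J h
  let b := Module.Free.chooseBasis R J
  have hsJ : ∀ z : J, s • z = 0 := fun z =>
    Subtype.ext (hsm z (IsLocalRing.le_maximalIdeal hJ z.2))
  refine (Submodule.eq_bot_iff _).2 fun z hz => ?_
  have : ∀ i, b.repr ⟨z, hz⟩ i = 0 := fun i => by
    have := congr_arg (fun w => b.repr w i) (hsJ (b i))
    simp [hs] at this
  exact congr_arg Subtype.val ((b.repr.map_eq_zero_iff (x := ⟨z, hz⟩)).1 (Finsupp.ext this))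

theorem socle_of_associatedPrime [IsNoetherianRing R] {p : Ideal R} [p.IsPrime]
    (hp : p ∈ associatedPrimes R R) :
    ∃ s : Localization.AtPrime p, s ≠ 0 ∧
      ∀ a ∈ IsLocalRing.maximalIdeal (Localization.AtPrime p), s * a = 0 := by
  obtain ⟨-, t, ht⟩ := (Submodule.isAssociatedPrime_iff (N := (⊥ : Submodule R R))).1 hp
  have hpt : ∀ z, z ∈ p ↔ z * t = 0 := fun z => by
    rw [ht, Submodule.mem_colon_singleton, Submodule.mem_bot, smul_eq_mul]
  refine ⟨algebraMap R _ t, fun h0 => ?_, fun a ha => ?_⟩
  · obtain ⟨⟨u, hu⟩, hut⟩ := (IsLocalization.map_eq_zero_iff p.primeCompl _ t).1 h0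
    exact hu ((hpt u).2 hut)
  · obtain ⟨⟨z, u⟩, rfl⟩ := IsLocalization.mk'_surjective p.primeCompl a |>.imp fun x h => h
    have hz : z ∈ p :=
      (IsLocalization.AtPrime.mk'_mem_maximal_iff (Localization.AtPrime p) p z u).1 ha
    rw [IsLocalization.mul_mk'_eq_mk'_of_mul, mul_comm, (hpt z).1 hz, IsLocalization.mk'_zero]

/-- An element of the coset `y + J` outside finitely many primes. -/
theorem exists_mem_coset_not_mem {y : R} {J : Ideal R} (s : Set (Ideal R)) (hs : s.Finite)
    (hprime : ∀ q ∈ s, q.IsPrime) (hyJ : ∀ q ∈ s, ¬ (J ≤ q)) :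
    ∃ x, x - y ∈ J ∧ ∀ q ∈ s, x ∉ q := by
  classical
  obtain ⟨t, rfl⟩ : ∃ t : Finset (Ideal R), (t : Set (Ideal R)) = s := ⟨hs.toFinset, hs.coe_toFinset⟩
  induction t using Finset.strongInductionOn with
  | _ t ih =>
    rcases t.eq_empty_or_nonempty with rfl | hne
    · exact ⟨y, by simp, by simp⟩
    · obtain ⟨q, hq, hmin⟩ := t.exists_minimal hne
      obtain ⟨x, hxy, hx⟩ := ih (t.erase q) (Finset.erase_ssubset hq) (Finset.finite_toSet _)
        (fun r hr => hprime r (Finset.mem_of_mem_erase hr))
        (fun r hr => hyJ r (Finset.mem_of_mem_erase hr))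
      by_cases hxq : x ∈ q
      · have hqp := hprime q hq
        have hnot : ¬ J * ∏ r ∈ t.erase q, r ≤ q := by
          intro hle
          rcases hqp.mul_le.1 hle with h | h
          · exact hyJ q hq h
          · obtain ⟨r, hr, hrq⟩ := hqp.prod_le.1 h
            have := hmin (Finset.mem_of_mem_erase hr) hrq
            exact (Finset.mem_erase.1 hr).1 (le_antisymm hrq this)
        obtain ⟨w, hw, hwq⟩ := SetLike.not_le_iff_exists.1 hnot
        refine ⟨x + w, ?_, fun r hr => ?_⟩
        · rw [add_sub_right_comm]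
          exact add_mem hxy (Ideal.mul_le_inf hw).1
        · rcases eq_or_ne r q with rfl | hne'
          · exact fun h => hwq ((Ideal.add_mem_iff_right _ hxq).1 h)
          · have hr' : r ∈ t.erase q := Finset.mem_erase.2 ⟨hne', hr⟩
            have hdvd : r ∣ ∏ r ∈ t.erase q, r := Finset.dvd_prod_of_mem (fun r => r) hr'
            have hwr : w ∈ r := Ideal.le_of_dvd hdvd (Ideal.mul_le_inf hw).2
            exact fun h => hx r hr' ((Ideal.add_mem_iff_left _ hwr).1 h)
      · refine ⟨x, hxy, fun r hr => ?_⟩
        rcases eq_or_ne r q with rfl | hne'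
        · exact hxq
        · exact hx r (Finset.mem_erase.2 ⟨hne', hr⟩)

/-- A lift of a generator of a free summand of the conormal module which is regular. -/
theorem exists_regular_lift [IsNoetherianRing R] {I : Ideal R} (hI : I ≠ ⊤) {n : ℕ}
    (hpd : PDle R I n) (y : I) (c : I →ₗ[R] R ⧸ I) (hc : c y = 1) :
    ∃ x : R, x - (y : R) ∈ I ^ 2 ∧ IsSMulRegular R x := by
  have hnot : ∀ q ∈ associatedPrimes R R, ¬ I ≤ q := by
    intro q hq hle
    haveI : q.IsPrime := hq.1
    obtain ⟨s, hs, hsm⟩ := socle_of_associatedPrime hq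
    have hne : I.map (algebraMap R (Localization.AtPrime q)) ≠ ⊤ := fun h => by
      have h2 : I.map (algebraMap R (Localization.AtPrime q)) ≤
          IsLocalRing.maximalIdeal (Localization.AtPrime q) := by
        rw [← Localization.AtPrime.map_eq_maximalIdeal]
        exact Ideal.map_mono hle
      rw [h, top_le_iff] at h2
      exact (IsLocalRing.maximalIdeal.isMaximal _).ne_top h2
    have hbot := eq_bot_of_pdle_of_socle hs hsm hne
      (pdle_localization q.primeCompl (Localization.AtPrime q) n
        (Algebra.idealMap I (S := Localization.AtPrime q)) hpd)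
    have hy0 : algebraMap R (Localization.AtPrime q) (y : R) = 0 := by
      have := Ideal.mem_map_of_mem (algebraMap R (Localization.AtPrime q)) y.2
      rwa [hbot, Ideal.mem_bot] at this
    obtain ⟨⟨u, hu⟩, huy⟩ := (IsLocalization.map_eq_zero_iff q.primeCompl _ _).1 hy0
    have h1 : c (u • y) = 0 := by
      rw [show u • y = 0 from Subtype.ext huy, map_zero]
    rw [map_smul, hc, Algebra.smul_def, mul_one, Ideal.Quotient.algebraMap_eq,
      Ideal.Quotient.eq_zero_iff_mem] at h1
    exact hu (hle h1)
  obtain ⟨x, hxy, hx⟩ := exists_mem_coset_not_mem (y := (y : R)) (J := I ^ 2)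
    (associatedPrimes R R) (associatedPrimes.finite R R) (fun q hq => hq.1)
    (fun q hq h => hnot q hq ((hq.1).le_of_pow_le h))
  refine ⟨x, hxy, ?_⟩
  by_contra hreg
  have : x ∈ ⋃ q ∈ associatedPrimes R R, (q : Set R) := by
    rw [biUnion_associatedPrimes_eq_compl_regular]
    exact hreg
  simp only [Set.mem_iUnion] at this
  obtain ⟨q, hq, hxq⟩ := this
  exact hx q hq hxq

theorem map_eq_zero_of_mem_sq {I : Ideal R} {M : Type u} [AddCommGroup M] [Module R M]
    (hM : ∀ a ∈ I, ∀ m : M, a • m = 0) (f : I →ₗ[R] M) {z : R} (hz : z ∈ I ^ 2) :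
    f ⟨z, Ideal.pow_le_self two_ne_zero hz⟩ = 0 := by
  have h : (⟨z, Ideal.pow_le_self two_ne_zero hz⟩ : I) ∈ (I • ⊤ : Submodule R I) :=
    (I.toCotangent_eq_zero _).2 hz |> (Submodule.Quotient.mk_eq_zero _).1
  refine Submodule.smul_induction_on h (fun a ha w _ => ?_) (fun a b ha hb => ?_)
  · rw [map_smul, hM a ha]
  · rw [map_add, ha, hb, add_zero]

/-- Ferrand–Vasconcelos: lifts of a basis of a free conormal summand forming a regular sequence. -/
theorem exists_isRegular_lift : ∀ (r : ℕ) {R : Type u} [CommRing R] [IsNoetherianRing R]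
    [IsLocalRing R] (I : Ideal R), I ≠ ⊤ → ∀ (n : ℕ), PDle R I n → ∀ (y : Fin r → I)
    (c : I →ₗ[R] (Fin r → R ⧸ I)), (∀ i, c (y i) = Pi.single i 1) →
    ∃ x : Fin r → R, (∀ i, x i - (y i : R) ∈ I ^ 2) ∧
      RingTheory.Sequence.IsRegular R (List.ofFn x) := by
  intro r
  induction r with
  | zero =>
      intro R _ _ _ I _ n _ y c _
      exact ⟨Fin.elim0, fun i => i.elim0, by
        rw [List.ofFn_zero]; exact RingTheory.Sequence.IsRegular.nil R R⟩
  | succ r ih =>
      intro R _ _ _ I hI n hpd y c hc
      let c0 : I →ₗ[R] R ⧸ I := (LinearMap.proj 0).comp c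
      obtain ⟨x0, hx0y, hx0⟩ := exists_regular_lift hI hpd (y 0) c0 (by simp [c0, hc])
      have hx0I : x0 ∈ I := by
        have := add_mem (Ideal.pow_le_self two_ne_zero hx0y) (y 0).2
        rwa [sub_add_cancel] at this
      let x0' : I := ⟨x0, hx0I⟩
      have hkillV : ∀ a ∈ I, ∀ v : Fin (r + 1) → R ⧸ I, a • v = 0 := fun a ha v => funext fun i => by
        rw [Pi.smul_apply, Algebra.smul_def, Ideal.Quotient.algebraMap_eq,
          Ideal.Quotient.eq_zero_iff_mem.2 ha, zero_mul, Pi.zero_apply]
      have hcx0 : c x0' = Pi.single 0 1 := by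
        rw [← hc 0, ← sub_eq_zero, ← map_sub]
        exact map_eq_zero_of_mem_sq hkillV c hx0y
      let R' := R ⧸ Ideal.span {x0}
      have hsurj : Function.Surjective (algebraMap R R') := Ideal.Quotient.mk_surjective
      let I' : Ideal R' := I.map (algebraMap R R')
      have hle : Ideal.span {x0} ≤ I := by simpa [Ideal.span_le] using hx0I
      have hI' : I' ≠ ⊤ := fun h => hI (by
        have := congr_arg (Ideal.comap (algebraMap R R')) h
        rwa [Ideal.comap_map_of_surjective _ hsurj, Ideal.comap_top, ← RingHom.ker_eq_comap_bot,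
          Ideal.Quotient.algebraMap_eq, Ideal.mk_ker, sup_of_le_left hle] at this)
      haveI : Nontrivial R' := Ideal.Quotient.nontrivial_iff.2 fun h => hI (top_le_iff.1 (h ▸ hle))
      haveI : IsLocalRing R' := IsLocalRing.of_surjective' (Ideal.Quotient.mk _) Ideal.Quotient.mk_surjective
      let g : I →ₗ[R] I' := Algebra.idealMap I (S := R')
      have hgval : ∀ z : I, ((g z : I') : R') = algebraMap R R' z := fun _ => rfl
      have hg : Function.Surjective g := fun w => by
        obtain ⟨z, hz, hzw⟩ := (Ideal.mem_map_iff_of_surjective _ hsurj).1 w.2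
        exact ⟨⟨z, hz⟩, Subtype.ext hzw⟩
      have hkerg : ∀ z, g z = 0 → ∃ a : R, z = a • x0' := by
        intro z hz
        have : algebraMap R R' (z : R) = 0 := congr_arg Subtype.val hz
        rw [Ideal.Quotient.algebraMap_eq, Ideal.Quotient.eq_zero_iff_mem,
          Ideal.mem_span_singleton'] at this
        obtain ⟨a, ha⟩ := this
        exact ⟨a, Subtype.ext ha.symm⟩
      have hgx0 : g x0' = 0 := Subtype.ext
        (Ideal.Quotient.eq_zero_iff_mem.2 (Ideal.mem_span_singleton_self x0))
      let φ : R ⧸ I →ₗ[R] QuotSMulTop x0 I :=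
        Submodule.liftQ I (LinearMap.toSpanSingleton R _ (Submodule.Quotient.mk x0')) fun a ha => by
          rw [LinearMap.mem_ker, LinearMap.toSpanSingleton_apply, ← Submodule.Quotient.mk_smul,
            Submodule.Quotient.mk_eq_zero, Submodule.mem_smul_pointwise_iff_exists]
          exact ⟨⟨a, ha⟩, trivial, Subtype.ext (mul_comm x0 a)⟩
      have hφ : ∀ a, φ (Ideal.Quotient.mk I a) = a • Submodule.Quotient.mk x0' := fun _ => rfl
      let s0 : I →ₗ[R] QuotSMulTop x0 I := Submodule.mkQ _ - φ.comp c0
      have hs0 : LinearMap.ker g ≤ LinearMap.ker s0 := by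
        intro z hz
        obtain ⟨a, rfl⟩ := hkerg z hz
        have h1 : c0 x0' = Ideal.Quotient.mk I 1 := by simp [c0, hcx0]
        rw [LinearMap.mem_ker, map_smul, LinearMap.sub_apply, LinearMap.comp_apply,
          Submodule.mkQ_apply, h1, hφ, one_smul, sub_self, smul_zero]
      let i₀ : I' →ₗ[R] QuotSMulTop x0 I :=
        (Submodule.liftQ _ s0 hs0).comp (g.quotKerEquivOfSurjective hg).symm.toLinearMap
      have hi₀ : ∀ z, i₀ (g z) = s0 z := by
        intro z
        have : (g.quotKerEquivOfSurjective hg).symm (g z) = Submodule.Quotient.mk z := by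
          rw [LinearEquiv.symm_apply_eq, LinearMap.quotKerEquivOfSurjective_apply_mk]
        change Submodule.liftQ _ s0 hs0 ((g.quotKerEquivOfSurjective hg).symm (g z)) = _
        rw [this, Submodule.liftQ_apply]
      let π₀ : QuotSMulTop x0 I →ₗ[R] I' := Submodule.liftQ _ g fun w hw => by
        obtain ⟨z, -, rfl⟩ := (Submodule.mem_smul_pointwise_iff_exists _ _ _).1 hw
        refine LinearMap.mem_ker.2 (Subtype.ext ?_)
        rw [hgval]
        exact Ideal.Quotient.eq_zero_iff_mem.2 (Ideal.mem_span_singleton'.2 ⟨z, mul_comm _ _⟩)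
      have hπi : ∀ w, π₀ (i₀ w) = w := by
        intro w
        obtain ⟨z, rfl⟩ := hg w
        obtain ⟨a, ha⟩ := Ideal.Quotient.mk_surjective (c0 z)
        rw [hi₀, LinearMap.sub_apply, LinearMap.comp_apply, ← ha, hφ, map_sub, map_smul]
        rw [show π₀ (Submodule.Quotient.mk x0') = g x0' from rfl, hgx0, smul_zero, sub_zero]
        rfl
      have hpd' : PDle R' I' n :=
        pdle_of_retract (i₀.extendScalarsOfSurjective hsurj) (π₀.extendScalarsOfSurjective hsurj)
          (LinearMap.ext hπi) (pdle_red hx0 n (IsSMulRegular.submodule _ _ hx0) hpd)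
      let η : R ⧸ I →ₗ[R] R' ⧸ I' := Submodule.liftQ I (Algebra.linearMap R (R' ⧸ I')) fun a ha =>
        Ideal.Quotient.eq_zero_iff_mem.2 (Ideal.mem_map_of_mem _ ha)
      have hη1 : η 1 = 1 := map_one (algebraMap R (R' ⧸ I'))
      let f' : I →ₗ[R] (Fin r → R' ⧸ I') :=
        LinearMap.pi fun i => η.comp ((LinearMap.proj i.succ).comp c)
      have hf' : LinearMap.ker g ≤ LinearMap.ker f' := by
        intro z hz
        obtain ⟨a, rfl⟩ := hkerg z hz
        rw [LinearMap.mem_ker, map_smul]
        refine smul_eq_zero_of_right a (funext fun i => ?_)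
        simp [f', hcx0]
      let c₀' : I' →ₗ[R] (Fin r → R' ⧸ I') :=
        (Submodule.liftQ _ f' hf').comp (g.quotKerEquivOfSurjective hg).symm.toLinearMap
      have hc₀' : ∀ z, c₀' (g z) = f' z := by
        intro z
        have : (g.quotKerEquivOfSurjective hg).symm (g z) = Submodule.Quotient.mk z := by
          rw [LinearEquiv.symm_apply_eq, LinearMap.quotKerEquivOfSurjective_apply_mk]
        change Submodule.liftQ _ f' hf' ((g.quotKerEquivOfSurjective hg).symm (g z)) = _
        rw [this, Submodule.liftQ_apply]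
      haveI : IsNoetherianRing R' := isNoetherianRing_of_surjective R R' (Ideal.Quotient.mk _) Ideal.Quotient.mk_surjective
      obtain ⟨x', hx'y, hreg'⟩ := ih I' hI' n hpd' (fun i => g (y i.succ))
        (c₀'.extendScalarsOfSurjective hsurj) (fun i => by
          change c₀' (g (y i.succ)) = _
          rw [hc₀']
          funext j
          change η (c (y i.succ) j.succ) = _
          rw [hc, Pi.single_apply, Pi.single_apply, apply_ite η, hη1, map_zero]
          simp [Fin.succ_inj])
      have hlift : ∀ i : Fin r, ∃ w ∈ I ^ 2, algebraMap R R' ((y i.succ : R) + w) = x' i := by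
        intro i
        have h := hx'y i
        rw [← Ideal.map_pow, Ideal.mem_map_iff_of_surjective _ hsurj] at h
        obtain ⟨w, hw, hwx⟩ := h
        exact ⟨w, hw, by rw [map_add, hwx, hgval, add_sub_cancel]⟩
      choose w hw hwx using hlift
      refine ⟨Fin.cons x0 fun i => (y i.succ : R) + w i, fun i => ?_, ?_⟩
      · refine Fin.cases ?_ (fun j => ?_) i
        · simpa using hx0y
        · simpa using hw j
      · rw [List.ofFn_succ]
        change RingTheory.Sequence.IsRegular R (x0 :: List.ofFn fun i => (y i.succ : R) + w i)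
        rw [RingTheory.Sequence.isRegular_cons_iff']
        refine ⟨hx0, ?_⟩
        rw [List.map_ofFn, show (Ideal.Quotient.mk (Ideal.span {x0}) ∘ fun i => (y i.succ : R) + w i)
          = x' from funext hwx]
        have htop : x0 • (⊤ : Submodule R R) = Ideal.span {x0} := by
          ext z
          simp [Submodule.mem_smul_pointwise_iff_exists, Ideal.mem_span_singleton', mul_comm, eq_comm]
        let e : QuotSMulTop x0 R ≃ₗ[R'] R' :=
          LinearEquiv.extendScalarsOfSurjective hsurj
            ((Submodule.quotEquivOfEq _ _ htop) : QuotSMulTop x0 R ≃ₗ[R] R')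
        exact (LinearEquiv.isRegular_congr e _).2 hreg'


end Groth.Agent.Lib.Vasconcelos.Core
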